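import Groth.Agent.Cyc.K308.Split
import Groth.Agent.Cyc.K308.PBAllPf
import Groth.Agent.Cyc.K305.TensCap
import Groth.Agent.ArSurf.K482.DetSes
import Groth.Agent.OmegaSh.K583.ExtPowPull
import Groth.Agent.Fdesc.LocGenTensor
import Groth.Agent.Grpsch.PicGrp

/-!
# First Chern classes of tensor products and determinants (helper937)

* `C1_tensor : C1 δ (L ⊗ N) = C1 δ L + C1 δ N`, `C1_structure : C1 δ O = 0`;
* `C1_det`: if `E` of rank `n` has a filtration with invertible quotients `Ls` then
  `c₁(Λⁿ E) = Σ c₁(L)`.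
-/

set_option autoImplicit false
universe u v
open AlgebraicGeometry CategoryTheory CategoryTheory.Limits TopologicalSpace Opposite Cyc
open Groth.Agent.CycB Groth.Agent.CycB.C1Pull K308.Grp

namespace K937.DetC1

variable {X : Scheme.{u}} {δ : X → ℤ}

theorem C1_tensor (hX : IsSetup X δ) {L N : X.Modules} (hL : PicF.IsInvertible L)
    (hN : PicF.IsInvertible N) : C1 δ (CohB1.tensorMod L N) = C1 δ L + C1 δ N := by
  have hT : PicF.IsInvertible (CohB1.tensorMod L N) :=
    Groth.Agent.Fdesc.LocGen.isInvertible_tensorMod hL hN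
  refine AddMonoidHom.ext fun a => ?_
  obtain ⟨α, rfl⟩ := cl_surjective δ a
  rw [C1_eq hX hL, C1_eq hX hN, C1_eq hX hT]
  change cl δ (capCycle hX hT α) = cl δ (capCycle hX hL α) + cl δ (capCycle hX hN α)
  rw [← map_add, eq_comm, cl_eq_iff']
  intro k
  rw [part_add]
  exact K305.TensCap.ratEquiv_add hL hN k (part δ (k + 1) α) (part_mem _ _ _)
    (sec hL) (sec_ne_zero hL) (sec hN) (sec_ne_zero hN) (sec hT) (sec_ne_zero hT) _ _ _
    (part_c1Cap L α _ _ (coe_capCycle hX hL α) k) (part_c1Cap N α _ _ (coe_capCycle hX hN α) k)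
    (part_c1Cap _ α _ _ (coe_capCycle hX hT α) k)

theorem C1_structure (hX : IsSetup X δ) : C1 δ (Coh.structureModule X) = 0 := by
  have hO : PicF.IsInvertible (Coh.structureModule X) :=
    Groth.Agent.Fdesc.LocGen.isInvertible_structureModule
  have h := C1_tensor hX hO hO
  have h2 : C1 δ (CohB1.tensorMod (Coh.structureModule X) (Coh.structureModule X)) =
      C1 δ (Coh.structureModule X) :=
    C1_congr δ (Groth.Agent.Ega2.Tens.lunit _)
  rw [h2] at h
  exact left_eq_add.1 h

/-- The determinant of a filtered module. -/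
theorem C1_det (hX : IsSetup X δ) {Ls : List X.Modules} (hLs : ∀ L ∈ Ls, PicF.IsInvertible L)
    {E : X.Modules} (h : SF Ls E) (hE : FlatMod.IsFinLocFreeOfRank Ls.length E)
    {D : X.Modules} (hD : ExtPow.IsExtPow Ls.length E D) :
    C1 δ D = (Ls.map (C1 δ)).sum := by
  induction Ls generalizing E D with
  | nil =>
    obtain ⟨e⟩ := Groth.Agent.Sga67.TensorOps.nonempty_iso_of_isExtPow (Iso.refl E) hD
      (Groth.Agent.Sga67.TensorOps.isExtPow_zero E)
    rw [C1_congr δ e, C1_structure hX]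
    rfl
  | cons L Ls ih =>
    obtain ⟨K, a, b, hab, hS, hK⟩ := h
    have hL := hLs L (by simp)
    have hLs' := fun M hM => hLs M (List.mem_cons_of_mem _ hM)
    have hL1 := Groth.Agent.Ega2.QCohLocal.isFinLocFreeOfRank_one_iff.2 hL
    have hKr : FlatMod.IsFinLocFreeOfRank Ls.length K :=
      Groth.Agent.Krr.H487.KerRank.isFinLocFreeOfRank_left hS hE hL1
    obtain ⟨DK, hDK⟩ := Groth.Agent.Dual.H366.ExtQCoh.exists_isExtPow Ls.length
      (Groth.Agent.Ega2.QCohLocal.isQCoh_of_isFinLocFree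
        (Groth.Agent.Krr.H495.Rank.isFinLocFree_of_rank hKr))
    obtain ⟨e⟩ := K482.DetSes.det_ses hS hKr hL1 hDK hD
      (Groth.Agent.Sga67.TensorOps.isExtPow_one L)
    have hDK1 : PicF.IsInvertible DK := by
      have := Groth.Agent.Krr.H495.Rank.rank_extPow hKr hDK
      rw [Nat.choose_self] at this
      exact Groth.Agent.Ega2.QCohLocal.isFinLocFreeOfRank_one_iff.1 this
    rw [← C1_congr δ e, C1_tensor hX hDK1 hL, ih hLs' hK hKr hDK, List.map_cons, List.sum_cons,
      add_comm]

end K937.DetC1
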